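import Mathlib
import Cfsg.Agent.Lib.A16.Model3
import Cfsg.Agent.Lib.W2.A8a

/-!
The Sylow 2-subgroup `SG = 2⁸ ⋊ T8` of `A₁₆` as a table group and its embedding in `W(D₈)`.
-/

set_option autoImplicit false
set_option Elab.async false

namespace CfsgLib.A16

open Subgroup Equiv Function WD CfsgLib.W2 CfsgLib.W2.TG CfsgLib.Tech

theorem xok (k : ℕ) : TOk (2 ^ k) Nat.xor fun a => a :=
  ⟨⟨fun _ ha _ hb => Nat.xor_lt_two_pow ha hb, fun a _ b _ c _ => Nat.xor_assoc a b c⟩,
    by positivity, fun _ ha => ha, fun a _ => Nat.zero_xor a, fun a _ => Nat.xor_self a⟩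

theorem okE : TOk 256 Nat.xor fun a => a := xok 8
theorem okB : TOk 128 Nat.xor fun a => a := xok 7

abbrev EG : Type := TG okE
abbrev BG : Type := TG okB

noncomputable section

instance : CommGroup EG := { (inferInstance : Group EG) with mul_comm := fun _ _ => ext' (Nat.xor_comm _ _) }
instance : CommGroup BG := { (inferInstance : Group BG) with mul_comm := fun _ _ => ext' (Nat.xor_comm _ _) }

theorem EG.sq (a : EG) : a * a = 1 := ext' (Nat.xor_self _)
theorem BG.sq (a : BG) : a * a = 1 := ext' (Nat.xor_self _)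

def acl : ℕ → ℕ → ℕ := tab2 8 255 16 0xf0e0d0c070605040b0a0908030201000f0e0d0c070605040b0a0908030201000f0e0d0c070605040b0a0908030201000f0e0d0c070605040b0a0908030201000f0b07030d0905010e0a06020c0804000f0b07030d0905010e0a06020c0804000f0b07030d0905010e0a06020c0804000f0b07030d0905010e0a06020c0804000f070b030e060a020d0509010c0408000f070b030e060a020d0509010c0408000f070b030e060a020d0509010c0408000f070b030e060a020d0509010c0408000f0d0e0c0b090a0807050604030102000f0d0e0c0b090a0807050604030102000f0d0e0c0b090a0807050604030102000f0d0e0c0b090a0807050604030102000f0d0e0c070506040b090a08030102000f0d0e0c070506040b090a08030102000f0d0e0c070506040b090a08030102000f0d0e0c070506040b090a08030102000f070b030d0509010e060a020c0408000f070b030d0509010e060a020c0408000f070b030d0509010e060a020c0408000f070b030d0509010e060a020c0408000f0b07030e0a06020d0905010c0804000f0b07030e0a06020d0905010c0804000f0b07030e0a06020d0905010c0804000f0b07030e0a06020d0905010c0804000f0e0d0c0b0a090807060504030201000f0e0d0c0b0a09080706050403020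1000f0e0d0c0b0a090807060504030201000f0e0d0c0b0a0908070605040302010000f0e0d0c070605040b0a0908030201000f0b07030d0905010e0a06020c0804000f070b030e060a020d0509010c0408000f0d0e0c0b090a0807050604030102000f0e0d0c070605040b0a0908030201000f0b07030d0905010e0a06020c0804000f070b030e060a020d0509010c0408000f0d0e0c0b090a0807050604030102000f0e0d0c070605040b0a0908030201000f0b07030d0905010e0a06020c0804000f070b030e060a020d0509010c0408000f0d0e0c0b090a0807050604030102000f0e0d0c070605040b0a0908030201000f0b07030d0905010e0a06020c0804000f070b030e060a020d0509010c0408000f0d0e0c0b090a0807050604030102000f0d0e0c070506040b090a08030102000f070b030d0509010e060a020c0408000f0b07030e0a06020d0905010c0804000f0e0d0c0b0a090807060504030201000f0d0e0c070506040b090a08030102000f070b030d0509010e060a020c0408000f0b07030e0a06020d0905010c0804000f0e0d0c0b0a090807060504030201000f0d0e0c070506040b090a08030102000f070b030d0509010e060a020c0408000f0b07030e0a06020d0905010c0804000f0e0d0c0b0a090807060504030201000f0d0e0c070506040b090a08030102000f070b030d0509010e060a020c0408000f0b07030e0a06020d0905010c0804000f0e0d0c0b0a09080706050403020100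
def ach : ℕ → ℕ → ℕ := tab2 8 255 16 0xf0e0d0c070605040b0a0908030201000f0b07030d0905010e0a06020c0804000f070b030e060a020d0509010c0408000f0d0e0c0b090a0807050604030102000f0e0d0c070605040b0a0908030201000f0b07030d0905010e0a06020c0804000f070b030e060a020d0509010c0408000f0d0e0c0b090a0807050604030102000f0e0d0c070605040b0a0908030201000f0b07030d0905010e0a06020c0804000f070b030e060a020d0509010c0408000f0d0e0c0b090a0807050604030102000f0e0d0c070605040b0a0908030201000f0b07030d0905010e0a06020c0804000f070b030e060a020d0509010c0408000f0d0e0c0b090a0807050604030102000f0d0e0c070506040b090a08030102000f070b030d0509010e060a020c0408000f0b07030e0a06020d0905010c0804000f0e0d0c0b0a090807060504030201000f0d0e0c070506040b090a08030102000f070b030d0509010e060a020c0408000f0b07030e0a06020d0905010c0804000f0e0d0c0b0a090807060504030201000f0d0e0c070506040b090a08030102000f070b030d0509010e060a020c0408000f0b07030e0a06020d0905010c0804000f0e0d0c0b0a090807060504030201000f0d0e0c070506040b090a08030102000f070b030d0509010e060a020c0408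000f0b07030e0a06020d0905010c0804000f0e0d0c0b0a09080706050403020100f0e0d0c070605040b0a0908030201000f0e0d0c070605040b0a0908030201000f0e0d0c070605040b0a0908030201000f0e0d0c070605040b0a0908030201000f0b07030d0905010e0a06020c0804000f0b07030d0905010e0a06020c0804000f0b07030d0905010e0a06020c0804000f0b07030d0905010e0a06020c0804000f070b030e060a020d0509010c0408000f070b030e060a020d0509010c0408000f070b030e060a020d0509010c0408000f070b030e060a020d0509010c0408000f0d0e0c0b090a0807050604030102000f0d0e0c0b090a0807050604030102000f0d0e0c0b090a0807050604030102000f0d0e0c0b090a0807050604030102000f0d0e0c070506040b090a08030102000f0d0e0c070506040b090a08030102000f0d0e0c070506040b090a08030102000f0d0e0c070506040b090a08030102000f070b030d0509010e060a020c0408000f070b030d0509010e060a020c0408000f070b030d0509010e060a020c0408000f070b030d0509010e060a020c0408000f0b07030e0a06020d0905010c0804000f0b07030e0a06020d0905010c0804000f0b07030e0a06020d0905010c0804000f0b07030e0a06020d0905010c0804000f0e0d0c0b0a090807060504030201000f0e0d0c0b0a090807060504030201000f0e0d0c0b0a090807060504030201000f0e0d0c0b0a090807060504030201000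

/-- the action of `T8` on the eight bits -/
def ac (r e : ℕ) : ℕ := Nat.xor (acl r (Nat.land e 15)) (ach r (Nat.shiftRight e 4))

def i8 : ℕ → ℕ := tab1 6 63 0xff7ef3f75e71fb6eb2f34e30beb9e3baa9a2b69961b289207dd79c5d55946d96984d14903ce34c2ca2481c61440c2040

theorem ac_lt : ∀ s < 64, ∀ a < 256, ac s a < 256 := by decide +kernel

theorem ac_xor (s : ℕ) (hs : s < 64) (a : ℕ) (ha : a < 256) (b : ℕ) (hb : b < 256) :
    ac s (Nat.xor a b) = Nat.xor (ac s a) (ac s b) := by
  have h : ∀ s < 64, ∀ x < 16, ∀ y < 16, acl s (Nat.xor x y) = Nat.xor (acl s x) (acl s y) ∧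
      ach s (Nat.xor x y) = Nat.xor (ach s x) (ach s y) := by decide +kernel
  have h1 : ∀ a < 256, Nat.land a 15 < 16 ∧ Nat.shiftRight a 4 < 16 := by decide +kernel
  have e1 : Nat.land (Nat.xor a b) 15 = Nat.xor (Nat.land a 15) (Nat.land b 15) :=
    Nat.and_xor_distrib_right
  have e2 : Nat.shiftRight (Nat.xor a b) 4 = Nat.xor (Nat.shiftRight a 4) (Nat.shiftRight b 4) :=
    Nat.shiftRight_xor_distrib
  rw [ac, e1, e2, (h s hs _ (h1 a ha).1 _ (h1 b hb).1).1, (h s hs _ (h1 a ha).2 _ (h1 b hb).2).2]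
  have k : ∀ a b c d : ℕ, (a ^^^ b) ^^^ (c ^^^ d) = (a ^^^ c) ^^^ (b ^^^ d) := by intros; ac_rfl
  exact k _ _ _ _

theorem ac_mul (s : ℕ) (hs : s < 64) (t : ℕ) (ht : t < 64) (a : ℕ) (ha : a < 256) :
    ac (m8 s t) a = ac s (ac t a) := by
  have h : ∀ s < 64, ∀ t < 64, ∀ x < 16, ac (m8 s t) x = ac s (ac t x) ∧
      ac (m8 s t) (16 * x) = ac s (ac t (16 * x)) := by decide +kernel
  obtain ⟨h1, h2, h3⟩ := (by decide +kernel : ∀ a < 256, a % 16 < 16 ∧ a / 16 < 16 ∧
    Nat.xor (a % 16) (16 * (a / 16)) = a) a ha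
  have h4 : 16 * (a / 16) < 256 := by omega
  have h5 : a % 16 < 256 := by omega
  rw [← h3, ac_xor _ (ok8.lt s hs t ht) _ h5 _ h4, ac_xor _ ht _ h5 _ h4,
    ac_xor _ hs _ (ac_lt t ht _ h5) _ (ac_lt t ht _ h4), (h s hs t ht _ h1).1, (h s hs t ht _ h2).2]

theorem sokS : SOk 16384 (sdm 256 Nat.xor m8 ac) := by
  have e : ∀ a b, sdm 256 Nat.xor m8 ac a b =
    Nat.xor (a % 256) (ac (a / 256) (b % 256)) + 256 * m8 (a / 256) (b / 256) := fun _ _ => rfl
  have hp : ∀ a < 16384, a % 256 < 256 ∧ a / 256 < 64 := fun a ha => by omega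
  have hq : ∀ q < 256, ∀ s, (q + 256 * s) % 256 = q ∧ (q + 256 * s) / 256 = s := fun q hq s => by omega
  have h1 : ∀ a < 16384, ∀ b < 16384, Nat.xor (a % 256) (ac (a / 256) (b % 256)) < 256 :=
    fun a ha b hb => okE.lt _ (hp a ha).1 _ (ac_lt _ (hp a ha).2 _ (hp b hb).1)
  refine ⟨fun a ha b hb => ?_, fun a ha b hb c hc => ?_⟩
  · have h2 := h1 a ha b hb
    have h3 := ok8.lt _ (hp a ha).2 _ (hp b hb).2
    rw [e]
    omega
  · obtain ⟨a1, a2⟩ := hp a ha
    obtain ⟨b1, b2⟩ := hp b hb
    obtain ⟨c1, c2⟩ := hp c hc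
    simp only [e, hq _ (h1 a ha b hb), hq _ (h1 b hb c hc)]
    rw [ok8.assoc _ a2 _ b2 _ c2, ac_mul _ a2 _ b2 _ c1, ac_xor _ a2 _ b1 _ (ac_lt _ b2 _ c1)]
    exact congrArg (· + _) (Nat.xor_assoc _ _ _)

theorem all_lt {P : ℕ → Prop} (h : ∀ r < 64, ∀ e < 256, P (Nat.add e (Nat.mul 256 r))) (a : ℕ)
    (ha : a < 16384) : P a := by
  have := h (a / 256) (by omega) (a % 256) (by omega)
  rwa [show Nat.add (a % 256) (Nat.mul 256 (a / 256)) = a from Nat.mod_add_div a 256] at this

def inS (a : ℕ) : ℕ :=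
  Nat.add (ac (i8 (Nat.div a 256)) (Nat.mod a 256)) (Nat.mul 256 (i8 (Nat.div a 256)))

theorem okS : TOk 16384 (sdm 256 Nat.xor m8 ac) inS :=
  ⟨sokS, by decide, all_lt (by decide +kernel), all_lt (by decide +kernel), all_lt (by decide +kernel)⟩

/-- the Sylow 2-subgroup of `A₁₆` -/
abbrev SG : Type := TG okS

instance (priority := high) decAllS (P : SG → Prop) [DecidablePred P] : Decidable (∀ x, P x) :=
  decidable_of_iff (∀ r < 64, ∀ e < 256, P (o (Nat.add e (Nat.mul 256 r))))
    ⟨fun H x => o_v x ▸ all_lt (P := fun k => P (o k)) H _ x.v_lt, fun H _ _ _ _ => H _⟩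

theorem card_SG : Nat.card SG = 2 ^ 14 := card_eq

theorem isPGroup_SG : IsPGroup 2 SG := IsPGroup.of_card card_SG

def eps : EG →* SG := homOf (gs := [o 1, o 2, o 4, o 8, o 16, o 32, o 64, o 128]) (D := 1)
  (by decide +kernel) (fun e => o e.v) (by decide +kernel) (by decide +kernel)

def pr : SG →* T8 := MonoidHom.mk' (fun p => o (Nat.div p.v 256)) fun p q => ext' (by
  have h1 := p.v_lt
  have h2 := q.v_lt
  have a1 : p.v / 256 < 64 := by omega
  have a2 : q.v / 256 < 64 := by omega
  have h3 := okE.lt (p.v % 256) (by omega) _ (ac_lt _ a1 (q.v % 256) (by omega))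
  have h4 := ok8.lt _ a1 _ a2
  change (Nat.xor (p.v % 256) (ac (p.v / 256) (q.v % 256)) + 256 * m8 (p.v / 256) (q.v / 256)) / 256 % 64 =
    m8 (p.v / 256 % 64) (q.v / 256 % 64)
  rw [Nat.mod_eq_of_lt a1, Nat.mod_eq_of_lt a2]
  omega)

def sc : T8 →* SG := MonoidHom.mk' (fun r => o (Nat.mul 256 r.v)) (by decide +kernel)

/-- the part in `E` -/
def ge (p : SG) : EG := o p.v

theorem dec_S : ∀ p, eps (ge p) * sc (pr p) = p := by decide +kernel
theorem ge_eps : ∀ e, ge (eps e) = e := by decide +kernel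
theorem pr_eps : ∀ e, pr (eps e) = 1 := by decide +kernel
theorem pr_sc : ∀ r, pr (sc r) = r := by decide +kernel
theorem eps_inj : Injective eps := LeftInverse.injective ge_eps

theorem mem_E {p : SG} : p ∈ eps.range ↔ pr p = 1 :=
  ⟨fun ⟨e, h⟩ => h ▸ pr_eps e, fun h => ⟨ge p, by simpa [h] using dec_S p⟩⟩

theorem range_eps : eps.range = pr.ker := Subgroup.ext fun _ => mem_E

instance : eps.range.Normal := range_eps ▸ inferInstance

/-- the action on a normal subgroup -/
def cAut {P S : Type} [Group P] [Group S] (β : P →* S) (γ : S → P) (h : ∀ a, γ (β a) = a)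
    (h1 : ∀ s a, β (γ (s * β a * s⁻¹)) = s * β a * s⁻¹) : S →* MulAut P :=
  MonoidHom.mk' (fun s =>
    { toFun := fun a => γ (s * β a * s⁻¹)
      invFun := fun a => γ (s⁻¹ * β a * s⁻¹⁻¹)
      left_inv := fun a => by simp only [h1]; simp [mul_assoc, h]
      right_inv := fun a => by simp only [h1]; simp [mul_assoc, h]
      map_mul' := fun a b => LeftInverse.injective h (by
        rw [h1, map_mul, map_mul, h1, h1]; group) })
    fun s t => MulEquiv.ext fun a => by
      change γ _ = γ (s * β (γ _) * s⁻¹)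
      rw [h1]; congr 1; group

theorem gee {p : SG} (h : p ∈ eps.range) : eps (ge p) = p := by
  obtain ⟨e, rfl⟩ := h; rw [ge_eps]

def cE : SG →* MulAut EG := cAut eps ge ge_eps fun s a => gee (Normal.conj_mem inferInstance _ (MonoidHom.mem_range.2 ⟨a, rfl⟩) s)

theorem eps_cE (s : SG) (a : EG) : eps (cE s a) = s * eps a * s⁻¹ :=
  gee (Normal.conj_mem inferInstance _ (MonoidHom.mem_range.2 ⟨a, rfl⟩) s)

/-- the action of `T8` on `E` -/
def ph : T8 →* MulAut EG := MonoidHom.mk' (fun r =>
    { toFun := fun a => o (ac r.v a.v)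
      invFun := fun a => o (ac r⁻¹.v a.v)
      left_inv := (by decide +kernel : ∀ (r : T8) (a : EG), (o (ac r⁻¹.v (o (ac r.v a.v) : EG).v) : EG) = a) r
      right_inv := (by decide +kernel : ∀ (r : T8) (a : EG), (o (ac r.v (o (ac r⁻¹.v a.v) : EG).v) : EG) = a) r
      map_mul' := fun a b => ext' (by
        rw [v_mul, v_mul, ac_xor _ r.v_lt _ a.v_lt _ b.v_lt, v_o (ac_lt _ r.v_lt _ a.v_lt),
          v_o (ac_lt _ r.v_lt _ b.v_lt)]
        exact v_o (okE.lt _ (ac_lt _ r.v_lt _ a.v_lt) _ (ac_lt _ r.v_lt _ b.v_lt))) })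
  fun r s => MulEquiv.ext fun a => by
    change (o (ac (m8 r.v s.v) a.v) : EG) = o (ac r.v (o (ac s.v a.v) : EG).v)
    rw [ac_mul _ r.v_lt _ s.v_lt _ a.v_lt, v_o (ac_lt _ s.v_lt _ a.v_lt)]

theorem cE_eq (s : SG) : cE s = ph (pr s) := MulEquiv.ext fun a => eps_inj (by
  have h : ∀ r a, sc r * eps a = eps (ph r a) * sc r := by decide +kernel
  rw [eps_cE]
  nth_rw 1 2 [← dec_S s]
  rw [mul_assoc (eps _), h, ← mul_assoc, ← map_mul, mul_comm, map_mul, mul_assoc (eps _), mul_inv_cancel_right])

theorem eps_ph (s : SG) (a : EG) : eps (ph (pr s) a) = s * eps a * s⁻¹ := cE_eq s ▸ eps_cE s a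

theorem ph_inj : Injective ph := (injective_iff_map_eq_one _).2 fun r h =>
  (by decide +kernel : ∀ r, (∀ a, ph r a = a) → r = 1) r fun a => by rw [h]; rfl

/-! ### the embedding in `W(D₈)` -/

def fn (n : ℕ) [NeZero n] (c : ℕ) (q : Fin n) : Fin n := Fin.ofNat n (tab1 4 15 c q.val)

def pm {n : ℕ} [NeZero n] (c d : ℕ) (h : (∀ q, fn n d (fn n c q) = q) ∧ ∀ q, fn n c (fn n d q) = q) :
    Perm (Fin n) := ⟨fn n c, fn n d, h.1, h.2⟩

def bv (c : ℕ) (p : Fin 8) : ZMod 2 := if bit c p.val then 1 else 0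

def esc (e : ℕ) : ℕ := tab1 32 0xffffffff 0x67452301674523106745320167453210675423016754231067543201675432107645230176452310764532017645321076542301765423107654320176543210 (tab1 4 15 0x1102332233201104554677667764554455467766776455401102332233201108998abbaabba8998cddceffeeffecddccddceffeeffecddc8998abbaabba89988998abbaabba8998cddceffeeffecddccddceffeeffecddc8998abbaabba89980110233223320110455467766776455445546776677645540110233223320110 e)
def ebc (e : ℕ) : ℕ := Nat.mul 3 (Nat.land (Nat.shiftRight e 1) 85)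
def lsc : ℕ → ℕ := tab1 32 0xffffffff 0x32107654103276541032765432107654321054761032547610325476321054763210547610325476103254763210547632107654103276541032765432107654321076541032765410327654321076543210547610325476103254763210547632105476103254761032547632105476321076541032765410327654321076547654321076541032765410327654321054763210547610325476103254763210547632105476103254761032547632107654321076541032765410327654321076543210765410327654103276543210547632105476103254761032547632105476321054761032547610325476321076543210765410327654103276543210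
def lbc : ℕ → ℕ := tab1 8 255 0x44414441141114114441444114111411555550505555505005050000050500004441444114111411444144411411141155555050555550500505000005050000

theorem e_ok : ∀ e : EG, ((∀ q, fn 8 (esc e.v) (fn 8 (esc e.v) q) = q) ∧
    ∀ q, fn 8 (esc e.v) (fn 8 (esc e.v) q) = q) ∧ ∑ p, bv (ebc e.v) p = 0 := by decide +kernel

theorem l_ok : ∀ r : T8, ((∀ q, fn 8 (lsc r⁻¹.v) (fn 8 (lsc r.v) q) = q) ∧
    ∀ q, fn 8 (lsc r.v) (fn 8 (lsc r⁻¹.v) q) = q) ∧ ∑ p, bv (lbc r.v) p = 0 := by decide +kernel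

def gE : List EG := [o 1, o 2, o 4, o 8, o 16, o 32, o 64, o 128]

theorem gE_gen : genB gE 1 = true := by decide +kernel

def ee : EG →* WD := homOf gE_gen (fun e => ⟨bv (ebc e.v), pm _ _ (e_ok e).1, (e_ok e).2⟩)
  (by decide +kernel) (by decide +kernel)

def lr : T8 →* WD := homOf (gs := [o 1, o 16, o 32]) (D := 4) (by decide +kernel)
  (fun r => ⟨bv (lbc r.v), pm _ _ (l_ok r).1, (l_ok r).2⟩) (by decide +kernel) (by decide +kernel)

theorem lr_ee (r : T8) (a : EG) : lr r * ee a * (lr r)⁻¹ = ee (ph r a) :=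
  DFunLike.congr_fun (hom_ext gE_gen (φ := (MulAut.conj (lr r)).toMonoidHom.comp ee)
    (ψ := ee.comp (ph r).toMonoidHom)
    ((by decide +kernel : ∀ r, ∀ a ∈ gE, lr r * ee a * (lr r)⁻¹ = ee (ph r a)) r)) a

theorem ge_mul (p q : SG) : ge (p * q) = ge p * ph (pr p) (ge q) := eps_inj (by
  have h := dec_S (p * q)
  rw [map_mul, map_mul, ← eq_mul_inv_iff_mul_eq] at h
  rw [h, map_mul, ← pr_sc (pr p), eps_ph, pr_sc]
  nth_rw 1 [← dec_S p, ← dec_S q]
  group)

def iw : SG →* WD := MonoidHom.mk' (fun p => ee (ge p) * lr (pr p)) fun p q => by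
  rw [ge_mul, map_mul, map_mul, map_mul, ← lr_ee]; group

theorem iw_eps (e : EG) : iw (eps e) = ee e := by
  change ee _ * lr _ = _; rw [ge_eps, pr_eps, map_one, mul_one]

/-! ### the diagonal subgroup -/

def gB : List BG := [o 1, o 2, o 4, o 8, o 16, o 32, o 64]

theorem gB_gen : genB gB 1 = true := by decide +kernel

def bet : BG →* SG := homOf gB_gen (fun k => o (tab1 14 16383 0x3fc0fc0ffc3fc0fcc3f003cc0f043fd0fc4ffd3fc4fcd3f043cd0f0433d0cc4f3d3cc4f0d3c0430d0c0033c0cc0f3c3cc0f0c3c0030c0c073fdcfc7ffdffc7fcdff073cdcf033fccfc3ffcffc3fccff033cccf0333cccc3f3cfcc3f0cfc0330ccc0733dccc7f3dfcc7f0dfc0730dcc070fdc3c7cfdf3c7ccdf3070cdc3030fcc3c3cfcf3c3cccf3030ccc30303cc0c3c3cf0c3c0cf00300cc00703dc0c7c3df0c7c0df00700dc0000fc03c0cfc33c0ccc33000cc03040fd03c4cfd33c4ccd33040cd030403d00c4c3d30c4c0d300400d000003c00c0c3c30c0c0c300000c000 k.v))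
  (by decide +kernel) (by decide +kernel)

def gb (p : SG) : BG := o (Nat.xor (Nat.shiftRight (ebc (Nat.mod p.v 256)) 1) (Nat.shiftRight (lbc (Nat.div p.v 256)) 1))

/-- representatives of the cosets of `B` -/
def tr (j : ℕ) : SG := o (tab1 14 16383 0x9556554954655095165449506540945651494465109416504940650091564549146450911644491064409056414904641090164049006400855615485461508516144850614084561148446110841610484061008156054814605081160448106040805601480460108016004800600015545541544550151454415045401454514144451014145041404500115445411444501114444110444010544141044410101440410044000554154054415005141440504140045411404441100414104040410001540540144050011404401040400054014004401000140040004000 j)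

def tj (s : SG) : ℕ := Nat.add (tab1 4 15 0x1102332233201104554677667764554455467766776455401102332233201108998abbaabba8998cddceffeeffecddccddceffeeffecddc8998abbaabba89988998abbaabba8998cddceffeeffecddccddceffeeffecddc8998abbaabba89980110233223320110455467766776455445546776677645540110233223320110 (Nat.mod s.v 256))
  (Nat.mul 16 (tab1 3 7 0x96cdfedfe96c96cdfedfe96c0484da4da0480484da4da048 (Nat.div s.v 256)))

theorem gb_bet : ∀ b, gb (bet b) = b := by decide +kernel
theorem bet_inj : Injective bet := LeftInverse.injective gb_bet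
theorem dec_T : ∀ s, tj s < 128 ∧ bet (gb (s * (tr (tj s))⁻¹)) * tr (tj s) = s := by decide +kernel
theorem bet_s : ∀ b, ∀ q, (iw (bet b)).s q = q := by decide +kernel
theorem tr_facts : ∀ j < 128, (∀ q, (iw (tr j)).b q = 0) ∧ ((∀ q, (iw (tr j)).s q = q) → tr j = 1) := by
  decide +kernel

theorem mem_B {p : SG} : p ∈ bet.range ↔ (iw p).s = 1 := by
  refine ⟨fun ⟨b, h⟩ => h ▸ Perm.ext (bet_s b), fun h => ⟨gb (p * (tr (tj p))⁻¹), ?_⟩⟩
  obtain ⟨h1, h2⟩ := dec_T p
  have h3 := congrArg (fun x => (iw x).s) h2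
  simp only [map_mul, mul_s, h, show ∀ b, (iw (bet b)).s = 1 from fun b => Perm.ext (bet_s b), one_mul] at h3
  have h4 := (tr_facts _ h1).2 fun q => by rw [h3]; rfl
  rwa [h4, mul_one, ← h4] at h2

theorem range_bet : bet.range = (sH.comp iw).ker := Subgroup.ext fun _ => mem_B

instance : bet.range.Normal := range_bet ▸ inferInstance

theorem iw_inj : Injective iw := (injective_iff_map_eq_one _).2 fun p h => by
  obtain ⟨b, rfl⟩ := mem_B.2 (show (iw p).s = 1 by rw [h]; rfl)
  exact (by decide +kernel : ∀ b, (∀ q, (iw (bet b)).b q = 0) → bet b = 1) b fun q => by rw [h]; rfl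

theorem gbb {p : SG} (h : p ∈ bet.range) : bet (gb p) = p := by
  obtain ⟨e, rfl⟩ := h; rw [gb_bet]

def cB : SG →* MulAut BG := cAut bet gb gb_bet fun s a => gbb (Normal.conj_mem inferInstance _ (MonoidHom.mem_range.2 ⟨a, rfl⟩) s)

theorem bet_cB (s : SG) (a : BG) : bet (cB s a) = s * bet a * s⁻¹ :=
  gbb (Normal.conj_mem inferInstance _ (MonoidHom.mem_range.2 ⟨a, rfl⟩) s)

theorem cB_bet (b : BG) : cB (bet b) = 1 := MulEquiv.ext fun a => bet_inj (by
  rw [bet_cB, ← map_mul, mul_comm, map_mul, mul_inv_cancel_right]; rfl)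

theorem cB_eq (s : SG) : ∃ j < 128, cB s = cB (tr j) := ⟨_, (dec_T s).1, by
  nth_rw 1 [← (dec_T s).2]; rw [map_mul, cB_bet, one_mul]⟩

theorem syl_iw : IsSylowIn 2 iw.range ⊤ := ⟨le_top, isPGroup_SG.of_surjective _ iw.rangeRestrict_surjective, by
  have h := iw.range.card_mul_index
  rw [← Nat.card_congr (MonoidHom.ofInjective iw_inj).toEquiv, card_SG, card_WD] at h
  rw [relIndex_top_right]
  omega⟩

end

end CfsgLib.A16
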